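import Cfsg.Agent.Lib.SelfCentralTwo.Order
import Cfsg.Agent.Lib.Perm.TwoPrimeDegree.Reduction
import Cfsg.Agent.Lib.Recognition.OrderSixty
import Cfsg.Agent.S0494

/-!
# Primitive groups of degree `2 p` with a Sylow normalizer of order `2 p`
-/

set_option autoImplicit false
set_option linter.unusedSectionVars false
set_option linter.style.haveILetI false

namespace Cfsg.Agent.Lib.SelfCentralTwo

open Cfsg Cfsg.Agent.Lib.Characters Cfsg.Agent.Lib.Perm Cfsg.Agent.Lib.Perm.TwoPrimeDegree MulAction

variable {α : Type*} [Fintype α] [DecidableEq α] {p : ℕ} [hp : Fact p.Prime]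

/-- In the case of rank three the index of a point stabilizer forces `p = 5`. -/
theorem eq_five {a h s : ℕ} (ha : 0 < a) (hpa : p = 2 * a ^ 2 + 2 * a + 1)
    (hh : 2 * h = (p - 1) * (p - 2))
    (hs : s = a * (2 * a + 1) ∨ s = (a + 1) * (2 * a + 1)) (hdvd : s ∣ h) : p = 5 := by
  obtain ⟨b, rfl⟩ : ∃ b, a = b + 1 := ⟨a - 1, by omega⟩
  set q := 2 * b ^ 2 + 6 * b + 3 with hq
  have hq2 : p - 2 = q := by rw [hpa, hq]; ring_nf; omega
  have hq1 : p - 1 = 2 * ((b + 1) * (b + 2)) := by rw [hpa]; ring_nf; omega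
  rw [hq1, hq2] at hh
  have hh' : h = (b + 1) * (b + 2) * q := by linarith
  have hkey : (2 * (b + 1) + 1) ∣ q := by
    rw [hh'] at hdvd
    rcases hs with rfl | rfl
    · have h1 : (2 * (b + 1) + 1) ∣ (b + 2) * q := by
        rw [mul_assoc] at hdvd
        exact (Nat.mul_dvd_mul_iff_left (by omega)).1 hdvd
      refine Nat.Coprime.dvd_of_dvd_mul_left ?_ h1
      refine Nat.coprime_of_dvd fun k hk h2 h3 => ?_
      have := (Nat.dvd_add_right (b := 2 * (b + 1) + 1) (c := 1) h2).1 (by
        rw [show 2 * (b + 1) + 1 + 1 = (b + 2) * 2 by ring]; exact h3.mul_right 2)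
      exact hk.one_lt.ne' (Nat.dvd_one.1 this)
    · have h1 : (2 * (b + 1) + 1) ∣ (b + 1) * q := by
        rw [show b + 1 + 1 = b + 2 by omega, mul_comm (b + 1) (b + 2), mul_assoc (b + 2)] at hdvd
        exact (Nat.mul_dvd_mul_iff_left (by omega)).1 hdvd
      refine Nat.Coprime.dvd_of_dvd_mul_left ?_ h1
      refine Nat.coprime_of_dvd fun k hk h2 h3 => ?_
      exact hk.one_lt.ne' (Nat.dvd_one.1 ((Nat.dvd_add_right (h3.mul_left 2)).1 h2))
  have h3 : (2 * (b + 1) + 1) ∣ 3 := by
    refine (Nat.dvd_add_right (hkey.mul_left 2)).1 ?_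
    exact Dvd.intro (2 * (b + 1) + 1) (by rw [hq]; ring)
  have : 2 * (b + 1) + 1 ≤ 3 := Nat.le_of_dvd (by norm_num) h3
  obtain rfl : b = 0 := by omega
  simpa using hpa

/-- A primitive, not doubly transitive group of degree `2 p` with a Sylow normalizer of order
`2 p` is the alternating group of degree five. -/
theorem degree_two_p (hp3 : 3 < p) (hα : Fintype.card α = 2 * p) (G : Subgroup (Equiv.Perm α))
    (hG : IsPreprimitive G α) (hnot2 : ¬ IsMultiplyPretransitive G α 2) (P : Sylow p G)
    (hN : Nat.card (Subgroup.normalizer ((P : Subgroup G) : Set G)) = 2 * p) :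
    p = 5 ∧ Nonempty (G ≃* alternatingGroup (Fin 5)) := by
  classical
  haveI := hG
  have hp2 : p ≠ 2 := by omega
  haveI hnt : Nontrivial α := Fintype.one_lt_card_iff_nontrivial.1 (by rw [hα]; omega)
  obtain ⟨a₀⟩ : Nonempty α := inferInstance
  -- no element of order `p` fixes a point
  have hcyc : ∀ g ∈ G, g ^ p = 1 → ∀ a : α, g a = a → g = 1 := by
    intro g hgG hgp a hga
    by_contra hg1
    have hord : orderOf g = p := orderOf_eq_prime hgp hg1
    have hlt : g.support.card < 2 * orderOf g := by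
      rw [hord, ← hα, Finset.card_lt_iff_ne_univ]
      intro h
      exact (Equiv.Perm.mem_support.1 (h ▸ Finset.mem_univ a : a ∈ g.support)) hga
    have hc : g.IsCycle := Equiv.Perm.isCycle_of_prime_order (hord ▸ hp.out) hlt
    have halt := Cfsg.Agent.Lib.Perm.alternatingGroup_le_of_prime_cycle G hG hp.out (by omega) hc
      (hc.orderOf.symm.trans hord) hgG
    have h2 : IsMultiplyPretransitive (alternatingGroup α) α 2 := by
      haveI := alternatingGroup.isMultiplyPretransitive α
      exact isMultiplyPretransitive_of_le (n := Nat.card α - 2)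
        (by rw [Nat.card_eq_fintype_card, hα]; omega) (Nat.sub_le _ _)
    apply hnot2
    rw [is_two_pretransitive_iff] at h2 ⊢
    intro a b c d hab hcd
    obtain ⟨k, hk1, hk2⟩ := h2 hab hcd
    exact ⟨⟨k, halt k.2⟩, hk1, hk2⟩
  set H := G ⊓ alternatingGroup α with hH
  have hdvd : p ∣ Nat.card G := by
    rw [← (stabilizer G a₀).index_mul_card, index_stabilizer_of_transitive,
      Nat.card_eq_fintype_card (α := α), hα]
    exact dvd_mul_of_dvd_left (dvd_mul_left p 2) _
  obtain ⟨y, hy⟩ := exists_prime_orderOf_dvd_card' p hdvd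
  have hyp : ((y : G) : Equiv.Perm α) ^ p = 1 := by
    rw [← Subgroup.coe_pow, ← hy, pow_orderOf_eq_one, Subgroup.coe_one]
  let x : H := ⟨(y : Equiv.Perm α), y.2, sign_eq_one_of_pow hp2 hyp⟩
  have hx : orderOf x = p := by
    rw [← Subgroup.orderOf_coe]
    show orderOf ((y : G) : Equiv.Perm α) = p
    rw [Subgroup.orderOf_coe, hy]
  have S : Setting p α x := setting_of_even hp2 hα
    (fun g hg hgp a ha => hcyc g (Subgroup.mem_inf.1 hg).1 hgp a ha)
    (fun g hg => (Subgroup.mem_inf.1 hg).2) x hx
  haveI := preprimitive_even (G := G) hH hp2 hα hG x hx S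
  haveI : Fintype H := Fintype.ofFinite H
  haveI : Fintype (IrrCharacter H) := Fintype.ofFinite _
  haveI : Nonempty α := ⟨a₀⟩
  obtain ⟨h3, a, ha, hpa, hsub⟩ := (S.main a₀).resolve_left (fun h2 => hnot2 (by
    rw [is_two_pretransitive_iff] at h2 ⊢
    intro a b c d hab hcd
    obtain ⟨k, hk1, hk2⟩ := h2 hab hcd
    exact ⟨⟨k, (Subgroup.mem_inf.1 k.2).1⟩, hk1, hk2⟩))
  -- Sylow subgroups have order `p`
  have hPc : Nat.card (P : Subgroup G) = p := by
    obtain ⟨k, hk⟩ := IsPGroup.iff_card.1 P.isPGroup'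
    have h1 : p ∣ Nat.card (P : Subgroup G) := P.dvd_card_of_dvd_card hdvd
    have h2 : Nat.card (P : Subgroup G) ∣ 2 * p := hN ▸ Subgroup.card_dvd_of_le Subgroup.le_normalizer
    rw [hk] at h1 h2 ⊢
    rcases k with _ | _ | k
    · exact absurd (Nat.dvd_one.1 (by simpa using h1)) hp.out.one_lt.ne'
    · exact pow_one p
    · exfalso
      have h4 : p * p ∣ 2 * p := (Dvd.intro _ (by ring : p * p * p ^ k = p ^ (k + 1 + 1))).trans h2
      have := Nat.le_of_dvd two_pos (Nat.dvd_of_mul_dvd_mul_right hp.out.pos h4)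
      omega
  have hsq : ¬ p ^ 2 ∣ Nat.card G := by
    intro h
    have h' := (hp.out.pow_dvd_iff_le_factorization Nat.card_pos.ne').1 h
    have e : p ^ 1 = p ^ (Nat.card G).factorization p := by
      rw [pow_one, ← P.card_eq_multiplicity, hPc]
    have := Nat.pow_right_injective hp.out.two_le e
    omega
  -- the multipliers
  have hmcard : (mults p x).card ≤ 2 := by
    let Q : Sylow p G := Sylow.ofCard (Subgroup.zpowers y) (by
      rw [Nat.card_zpowers, hy, ← P.card_eq_multiplicity, hPc])
    have hQ : Nat.card (Subgroup.normalizer ((Subgroup.zpowers y : Subgroup G) : Set G)) = 2 * p := by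
      have e1 : Nat.card (Sylow p G) =
          (Subgroup.normalizer ((P : Subgroup G) : Set G)).index := P.card_eq_index_normalizer
      have e2 : Nat.card (Sylow p G) =
          (Subgroup.normalizer ((Subgroup.zpowers y : Subgroup G) : Set G)).index :=
        Q.card_eq_index_normalizer
      have e3 := Subgroup.card_mul_index (Subgroup.normalizer ((P : Subgroup G) : Set G))
      have e4 := Subgroup.card_mul_index (Subgroup.normalizer ((Subgroup.zpowers y : Subgroup G) : Set G))
      rw [hN, ← e1] at e3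
      rw [← e2, ← e3] at e4
      exact Nat.eq_of_mul_eq_mul_right Nat.card_pos e4
    have hg : ∀ m : mults p x, ∃ g : H, g * x * g⁻¹ = pw x (m : ZMod p) := fun m => mem_mults.1 m.2
    choose g hg using hg
    let ι : H →* G := Subgroup.inclusion inf_le_left
    have hιx : ι x = y := Subtype.ext rfl
    have hmem : ∀ q : mults p x × ZMod p, ι (pw x q.2 * g q.1) ∈
        Subgroup.normalizer ((Subgroup.zpowers y : Subgroup G) : Set G) := by
      intro q
      refine Subgroup.mem_normalizer_iff.2 fun z => ?_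
      have hc : pw x q.2 * g q.1 * x * (pw x q.2 * g q.1)⁻¹ = pw x (q.1 : ZMod p) := by
        rw [show pw x q.2 * g q.1 * x * (pw x q.2 * g q.1)⁻¹ =
          pw x q.2 * (g q.1 * x * (g q.1)⁻¹) * (pw x q.2)⁻¹ by group, hg, ← pw_add hx, ← pw_neg hx,
          ← pw_add hx]
        congr 1; ring
      have hy' : ι (pw x q.2 * g q.1) * y * (ι (pw x q.2 * g q.1))⁻¹ = y ^ (q.1 : ZMod p).val := by
        rw [← hιx, ← map_inv, ← map_mul, ← map_mul, hc, pw, map_pow]
      have hle : (Subgroup.zpowers y).map (MulAut.conj (ι (pw x q.2 * g q.1))).toMonoidHom =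
          Subgroup.zpowers y := by
        refine Subgroup.eq_of_le_of_card_ge ?_ (le_of_eq ?_)
        · rw [MonoidHom.map_zpowers, Subgroup.zpowers_le]
          show ι (pw x q.2 * g q.1) * y * (ι (pw x q.2 * g q.1))⁻¹ ∈ _
          rw [hy']; exact Subgroup.pow_mem _ (Subgroup.mem_zpowers y) _
        · exact (Subgroup.card_map_of_injective (MulEquiv.injective _)).symm
      conv_rhs => rw [← hle]
      exact (Subgroup.mem_map_iff_mem (MulAut.conj (ι (pw x q.2 * g q.1))).injective).symm
    have hinj : Function.Injective fun q : mults p x × ZMod p =>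
        (⟨ι (pw x q.2 * g q.1), hmem q⟩ : Subgroup.normalizer ((Subgroup.zpowers y : Subgroup G) : Set G)) := by
      rintro ⟨m, i⟩ ⟨n, j⟩ h
      have h' : pw x i * g m = pw x j * g n :=
        Subgroup.inclusion_injective inf_le_left (congrArg Subtype.val h)
      have hmn : m = n := by
        have e : ∀ (i : ZMod p) (m : mults p x),
            pw x i * g m * x * (pw x i * g m)⁻¹ = pw x (m : ZMod p) := fun i m => by
          rw [show pw x i * g m * x * (pw x i * g m)⁻¹ =
            pw x i * (g m * x * (g m)⁻¹) * (pw x i)⁻¹ by group, hg, ← pw_add hx, ← pw_neg hx,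
            ← pw_add hx]
          congr 1; ring
        have := (e i m).symm.trans ((congrArg (fun z => z * x * z⁻¹) h').trans (e j n))
        exact Subtype.ext (pw_injective hx this)
      subst hmn
      rw [mul_left_inj] at h'
      exact Prod.ext rfl (pw_injective hx h')
    have h := Nat.card_le_card_of_injective _ hinj
    rw [Nat.card_prod, Nat.card_zmod, hQ, Nat.card_eq_fintype_card, Fintype.card_coe] at h
    exact Nat.le_of_mul_le_mul_right h hp.out.pos
  have hmults : ∀ m, m ∈ mults p x ↔ m = (1 : ZMod p) ∨ m = -1 := by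
    obtain ⟨m₀, hm₀, hne⟩ := Finset.exists_mem_ne S.one_lt_card_mults 1
    have heq : mults p x = {1, m₀} := by
      refine (Finset.eq_of_subset_of_card_le (fun z hz => ?_) (by rw [Finset.card_pair hne.symm]; exact hmcard)).symm
      rcases Finset.mem_insert.1 hz with rfl | hz
      · exact one_mem_mults
      · rw [Finset.mem_singleton.1 hz]; exact hm₀
    have hsq1 : m₀ * m₀ = 1 := by
      have h := mul_mem_mults hx hm₀ hm₀
      rw [heq, Finset.mem_insert, Finset.mem_singleton] at h
      exact h.resolve_right (fun h => hne (mul_right_cancel₀ (ne_zero_of_mem_mults hx hm₀)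
        (h.trans (one_mul m₀).symm)))
    obtain rfl : m₀ = -1 := (mul_self_eq_one_iff.1 hsq1).resolve_left hne
    intro m
    rw [heq]; simp
  -- the character of degree `p - 1`
  have hrank := PermCharacter.sum_mult_sq (G := H) (Ω := α)
  rw [PermCharacter.card_orbits_prod a₀, h3] at hrank
  have htriv := PermCharacter.mult_triv (G := H) (Ω := α)
  obtain ⟨θ, D⟩ : ∃ θ : IrrCharacter H, Datum p x θ := by
    rcases classify S.weights with ⟨χ₁, ht, hw, hsupp⟩ | ⟨χ₁, χ₂, ht1, ht2, h12, hw1, hw2, hd1, hd2,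
      hsupp⟩ | ⟨ξ, ht, hw, hd, hdeg⟩
    · exfalso
      rw [Fintype.sum_eq_add (trivIrr H) χ₁ ht.symm fun χ hχ => ?_, htriv, hw] at hrank
      · norm_num at hrank
      · have h0 : PermCharacter.mult (Ω := α) χ = 0 := by
          by_contra h
          rcases hsupp χ h with h | h
          · exact hχ.1 h
          · exact hχ.2 h
        rw [h0]; norm_num
    · have hconst : ∀ j : ZMod p, j ≠ 0 → dm p x χ₁ j = dm p x χ₁ 1 := by
        intro j hj
        by_contra hne
        obtain ⟨η, hη, hwη, hdeg, -⟩ := S.weights.partner (by rw [hw1]; norm_num) hj one_ne_zero hne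
        rcases hsupp η (by rw [hwη, hw1]; norm_num) with rfl | rfl | rfl
        · rw [hd1, show ((trivIrr H : IrrCharacter H) : H → ℂ) 1 = 1 from rfl] at hdeg
          have e : ((2 : ℕ) : ℂ) = (p : ℂ) := by push_cast; linear_combination hdeg
          have := Nat.cast_injective e
          omega
        · exact hη rfl
        · rw [hd1, hd2] at hdeg
          have : (1 : ℂ) = 0 := by linear_combination hdeg
          norm_num at this
      have hsum : dm p x χ₁ 0 + (p - 1) * dm p x χ₁ 1 = p - 1 := by
        have h := degree_eq hx χ₁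
        rw [Finset.sum_congr rfl fun j hj => hconst j (Finset.ne_of_mem_erase hj), Finset.sum_const,
          Finset.card_erase_of_mem (Finset.mem_univ _), Finset.card_univ, ZMod.card, smul_eq_mul,
          hd1] at h
        rw [show ((p : ℂ) - 1) = ((p - 1 : ℕ) : ℂ) by rw [Nat.cast_sub hp.out.one_le]; simp,
          Nat.cast_inj] at h
        exact h.symm
      have h0 : dm p x χ₁ 0 ≤ 1 := by
        have h := S.total (0 : ZMod p)
        have hsub' := Finset.sum_le_sum_of_subset (f := fun χ => PermCharacter.mult (Ω := α) χ * dm p x χ 0)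
          (Finset.subset_univ ({trivIrr H, χ₁} : Finset (IrrCharacter H)))
        rw [h, Finset.sum_pair ht1.symm, htriv, hw1, dm_triv hx, if_pos rfl] at hsub'
        omega
      have hc : dm p x χ₁ 1 = 1 := by
        rcases Nat.lt_trichotomy (dm p x χ₁ 1) 1 with h | h | h
        · rw [Nat.lt_one_iff.1 h] at hsum; omega
        · exact h
        · have : (p - 1) * 2 ≤ (p - 1) * dm p x χ₁ 1 := Nat.mul_le_mul_left _ h
          omega
      rw [hc, mul_one] at hsum
      exact ⟨χ₁, ⟨hx, S.cent, hmults, by omega, by omega, fun j hj => (hconst j hj).trans hc⟩⟩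
    · exact (S.no_exceptional ξ ht hw hd hdeg).elim
  -- the kernel of the character is trivial
  have hker : Nat.card {g : H // (θ : H → ℂ) g = (θ : H → ℂ) 1} = 1 := by
    refine Nat.card_eq_one_iff_unique.2 ⟨?_, ⟨⟨1, rfl⟩⟩⟩
    suffices h : ∀ g : H, (θ : H → ℂ) g = (θ : H → ℂ) 1 → g = 1 from
      ⟨fun u v => Subtype.ext ((h u u.2).trans (h v v.2).symm)⟩
    intro g hg
    by_contra hg1
    set K := charKernel (irr_isCharacter θ) with hK
    have hfix : fixedPoints K α ≠ Set.univ := by
      intro h
      refine hg1 (Subtype.ext (Equiv.ext fun c => ?_))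
      have hc : c ∈ fixedPoints K α := h ▸ Set.mem_univ c
      exact hc ⟨g, (mem_charKernel _).2 hg⟩
    haveI := IsQuasiPreprimitive.isPretransitive_of_normal (G := H) (X := α) (N := K) hfix
    have hpK : p ∣ Nat.card K := by
      rw [← (stabilizer K a₀).index_mul_card, index_stabilizer_of_transitive,
        Nat.card_eq_fintype_card (α := α), hα]
      exact dvd_mul_of_dvd_left (dvd_mul_left p 2) _
    obtain ⟨z, hz⟩ := exists_prime_orderOf_dvd_card' p hpK
    have hz' : orderOf (z : H) = p := by rw [Subgroup.orderOf_coe, hz]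
    have hsqH : ¬ p ^ 2 ∣ Nat.card H := fun h => hsq (h.trans (Subgroup.card_dvd_of_le inf_le_left))
    have hpH : (Nat.card H).factorization p = 1 := by
      have h1 : p ∣ Nat.card H := hx ▸ orderOf_dvd_natCard x
      have := hp.out.factorization_pos_of_dvd Nat.card_pos.ne' h1
      have : ¬ 2 ≤ (Nat.card H).factorization p := fun h =>
        hsqH ((hp.out.pow_dvd_iff_le_factorization Nat.card_pos.ne').2 h)
      omega
    let Q₁ : Sylow p H := Sylow.ofCard (Subgroup.zpowers x) (by
      rw [Nat.card_zpowers, hx, hpH, pow_one])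
    let Q₂ : Sylow p H := Sylow.ofCard (Subgroup.zpowers (z : H)) (by
      rw [Nat.card_zpowers, hz', hpH, pow_one])
    obtain ⟨k, hk⟩ := exists_smul_eq H Q₂ Q₁
    have hmem : k * (z : H) * k⁻¹ ∈ Subgroup.zpowers x := by
      have h1 : k * (z : H) * k⁻¹ ∈ ((k • Q₂ : Sylow p H) : Subgroup H) :=
        Subgroup.smul_mem_pointwise_smul _ (MulAut.conj k) _ (Subgroup.mem_zpowers (z : H))
      rw [hk] at h1
      exact h1
    obtain ⟨i, hi⟩ := Subgroup.mem_zpowers_iff.1 hmem
    have hi' : k * (z : H) * k⁻¹ = pw x (i : ZMod p) := by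
      rw [← hi, pw, ← zpow_natCast x, ZMod.val_intCast, ← hx, zpow_mod_orderOf]
    have hi0 : (i : ZMod p) ≠ 0 := by
      intro h0
      rw [h0, pw_zero, conj_eq_one_iff] at hi'
      rw [hi', orderOf_one] at hz'
      exact hp.out.one_lt.ne hz'
    have e1 : (θ : H → ℂ) (z : H) = (θ : H → ℂ) 1 := (mem_charKernel _).1 z.2
    rw [← IsCharacter.conj_apply (irr_isCharacter θ) (z : H) k, hi', D.apply_pw hi0, D.degree] at e1
    exact hp.out.ne_zero (Nat.cast_eq_zero.1 (show ((p : ℕ) : ℂ) = 0 by linear_combination -e1))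
  have hHcard : Nat.card H = p * ((p - 1) * (p - 2)) := by
    rw [Nat.card_eq_fintype_card, D.card_eq, hker, mul_one]
  have hstab : 2 * Nat.card (stabilizer H a₀) = (p - 1) * (p - 2) := by
    have h := S.two_mul_dvd a₀
    rw [hHcard] at h
    refine Nat.eq_of_mul_eq_mul_left hp.out.pos ?_
    rw [h]; ring
  obtain ⟨b, hb⟩ := exists_ne a₀
  have hp5 : p = 5 := eq_five ha hpa hstab (hsub b hb) (by
    rw [Nat.card_coe_set_eq, ← index_stabilizer (stabilizer H a₀)]
    exact Subgroup.index_dvd_card _)
  subst hp5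
  refine ⟨rfl, ?_⟩
  have hG2 : Nat.card G ∣ 2 * Nat.card H := by
    let f : G →* ℤˣ := Equiv.Perm.sign.comp G.subtype
    have h1 : f.ker.map G.subtype = H := by
      ext z
      constructor
      · rintro ⟨w, hw, rfl⟩
        exact ⟨w.2, hw⟩
      · rintro ⟨h1, h2⟩
        exact ⟨⟨z, h1⟩, h2, rfl⟩
    have h2 : Nat.card f.ker = Nat.card H := by
      rw [← h1, Subgroup.card_map_of_injective G.subtype_injective]
    rw [← f.ker.card_mul_index, h2, mul_comm, Subgroup.index_ker]
    refine Nat.mul_dvd_mul_right ?_ _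
    exact (Subgroup.card_subgroup_dvd_card _).trans (by simp)
  have h60 : Nat.card G = 60 := by
    rw [hHcard] at hG2
    have h1 : Nat.card H ∣ Nat.card G := Subgroup.card_dvd_of_le inf_le_left
    rw [hHcard] at h1
    rw [show 5 * ((5 - 1) * (5 - 2)) = 60 by norm_num] at hG2 h1
    have h2 := card_sylow_modEq_one 5 G
    rw [show Nat.card (Sylow 5 G) =
      (Subgroup.normalizer ((P : Subgroup G) : Set G)).index from P.card_eq_index_normalizer] at h2
    have h4 := Subgroup.card_mul_index (Subgroup.normalizer ((P : Subgroup G) : Set G))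
    rw [hN] at h4
    have h5 := Nat.le_of_dvd (by norm_num) hG2
    have h6 : 0 < Nat.card G := Nat.card_pos
    unfold Nat.ModEq at h2
    omega
  have hPn : ¬ (P : Subgroup G).Normal := by
    intro h
    rw [Subgroup.normalizer_eq_top_iff.2 h, Subgroup.card_top, h60] at hN
    omega
  haveI := Cfsg.Agent.Lib.Recognition.isSimpleGroup_of_card_sixty h60 P hPn
  exact Cfsg.Agent.S0494.result h60

end Cfsg.Agent.Lib.SelfCentralTwo
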