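import Cfsg.Agent.Lib.Perm.TwoPrimeDegree.Classify
import Cfsg.Agent.Lib.Characters.Convolution
import Cfsg.Agent.Lib.Characters.Kernel
import Cfsg.Agent.Lib.Characters.Values
import Cfsg.Agent.Lib.InvChar.GaloisChar

/-!
# An element `x` of order `p` with centralizer `⟨x⟩`, inverted in its normalizer of order `2 p`,
and an irreducible character of degree `p - 1` without fixed vector of `x`

The group then has order `p (p - 1) (p - 2)` times the order of the kernel of the character.
-/

set_option autoImplicit false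
set_option linter.unusedSectionVars false
set_option linter.style.haveILetI false

namespace Cfsg.Agent.Lib.SelfCentralTwo

open Cfsg Cfsg.Agent.Lib.Characters Cfsg.Agent.Lib.Perm.TwoPrimeDegree Cfsg.Agent.Lib.BlockHeights
open scoped ComplexConjugate

universe u

variable {H : Type u} [Group H] [Fintype H] {p : ℕ} [hp : Fact p.Prime] {x : H}
  [Fintype (IrrCharacter H)]

/-- The data. -/
structure Datum (p : ℕ) [Fact p.Prime] (x : H) (θ : IrrCharacter H) : Prop where
  order : orderOf x = p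
  cent : ∀ g : H, g * x = x * g → ∃ i : ZMod p, g = pw x i
  mults_eq : ∀ m, m ∈ mults p x ↔ m = (1 : ZMod p) ∨ m = -1
  three_le : 3 ≤ p
  dm_zero : dm p x θ 0 = 0
  dm_ne_zero : ∀ j : ZMod p, j ≠ 0 → dm p x θ j = 1

/-- `g` is not conjugate to a non-trivial power of `x`. -/
def Reg (p : ℕ) (x g : H) : Prop := ∀ i : ZMod p, i ≠ 0 → ¬ IsConj (pw x i) g

theorem char_pw (hx : orderOf x = p) (χ : IrrCharacter H) (l : ZMod p) :
    (χ : H → ℂ) (pw x l) = ∑ j : ZMod p, (dm p x χ j : ℂ) * ZMod.stdAddChar (l * j) := by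
  classical
  apply mul_left_cancel₀ (Nat.cast_ne_zero.2 hp.out.ne_zero : (p : ℂ) ≠ 0)
  rw [Finset.mul_sum]
  simp only [← mul_assoc, ← dm_spec hx, Finset.sum_mul]
  rw [Finset.sum_comm]
  have : ∀ i : ZMod p, ∑ j : ZMod p, (χ : H → ℂ) (pw x i) * ZMod.stdAddChar (-(i * j)) *
      ZMod.stdAddChar (l * j) = if i = l then (χ : H → ℂ) (pw x i) * p else 0 := by
    intro i
    simp only [mul_assoc, ← AddChar.map_add_eq_mul, ← Finset.mul_sum]
    rw [Finset.sum_congr rfl fun j _ =>
      congrArg ZMod.stdAddChar (show -(i * j) + l * j = j * (l - i) by ring), sum_std]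
    by_cases h : i = l
    · rw [if_pos h, if_pos (by rw [h, sub_self])]
    · rw [if_neg h, if_neg (fun h' => h (sub_eq_zero.1 h').symm), mul_zero]
  rw [Finset.sum_congr rfl fun i _ => this i, Finset.sum_ite_eq' Finset.univ l,
    if_pos (Finset.mem_univ _), mul_comm]

variable {θ : IrrCharacter H}

theorem Datum.one_ne_neg_one (D : Datum p x θ) : (1 : ZMod p) ≠ -1 := by
  intro h
  have h2 : ((2 : ℕ) : ZMod p) = 0 := by push_cast; linear_combination h
  rw [ZMod.natCast_eq_zero_iff] at h2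
  have := Nat.le_of_dvd two_pos h2
  have := D.three_le
  omega

theorem Datum.mults_eq' (D : Datum p x θ) : mults p x = {(1 : ZMod p), -1} := by
  ext m; simp [D.mults_eq]

theorem Datum.degree (D : Datum p x θ) : (θ : H → ℂ) 1 = (p : ℂ) - 1 := by
  classical
  rw [degree_eq D.order θ, D.dm_zero, zero_add,
    Finset.sum_congr rfl fun j hj => D.dm_ne_zero j (Finset.ne_of_mem_erase hj),
    Finset.sum_const, smul_eq_mul, mul_one, Finset.card_erase_of_mem (Finset.mem_univ _),
    Finset.card_univ, ZMod.card, Nat.cast_sub hp.out.one_le, Nat.cast_one]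

theorem Datum.apply_pw (D : Datum p x θ) {i : ZMod p} (hi : i ≠ 0) :
    (θ : H → ℂ) (pw x i) = -1 := by
  classical
  rw [char_pw D.order]
  have h : ∀ j : ZMod p, (dm p x θ j : ℂ) * ZMod.stdAddChar (i * j) =
      ZMod.stdAddChar (j * i) - (if j = 0 then 1 else 0) := by
    intro j
    by_cases hj : j = 0
    · subst hj; simp [D.dm_zero]
    · simp [hj, D.dm_ne_zero j hj, mul_comm]
  rw [Finset.sum_congr rfl fun j _ => h j, Finset.sum_sub_distrib, sum_std, if_neg hi,
    Finset.sum_ite_eq', if_pos (Finset.mem_univ _), zero_sub]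

theorem sum_diff_reg (hx : orderOf x = p) {g : H} (hg : Reg p x g) (j k : ZMod p) :
    ∑ χ : IrrCharacter H, conj ((χ : H → ℂ) g) * ((dm p x χ j : ℂ) - dm p x χ k) = 0 := by
  classical
  apply mul_left_cancel₀ (Nat.cast_ne_zero.2 hp.out.ne_zero : (p : ℂ) ≠ 0)
  rw [mul_zero, Finset.mul_sum]
  have e : ∀ χ : IrrCharacter H, (p : ℂ) * (conj ((χ : H → ℂ) g) * ((dm p x χ j : ℂ) - dm p x χ k)) =
      ∑ i : ZMod p, (χ : H → ℂ) (pw x i) * conj ((χ : H → ℂ) g) *
        (ZMod.stdAddChar (-(i * j)) - ZMod.stdAddChar (-(i * k))) := by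
    intro χ
    rw [mul_left_comm, mul_sub (p : ℂ), ← dm_spec hx, ← dm_spec hx, ← Finset.sum_sub_distrib,
      Finset.mul_sum]
    exact Finset.sum_congr rfl fun i _ => by ring
  rw [Finset.sum_congr rfl fun χ _ => e χ, Finset.sum_comm]
  refine Finset.sum_eq_zero fun i _ => ?_
  rw [← Finset.sum_mul, sum_irr_mul_conj]
  rcases eq_or_ne i 0 with rfl | hi
  · simp
  · rw [if_neg (hg i hi), zero_mul]

theorem reg_one (hx : orderOf x = p) : Reg p x (1 : H) := fun i hi h =>
  pw_ne_one hx hi (isConj_one_left.1 h)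

theorem dm_triv' (hx : orderOf x = p) (j : ZMod p) :
    (dm p x (trivIrr H) j : ℤ) = if j = 0 then 1 else 0 := by
  rw [dm_triv hx]; split <;> simp

/-- Every other irreducible character not vanishing at `x` has degree `p - 2` and agrees with
`θ - 1` away from the non-trivial powers of `x`. -/
theorem Datum.exceptional (D : Datum p x θ) {χ : IrrCharacter H} (ht : χ ≠ trivIrr H) (hθ : χ ≠ θ)
    {i : ZMod p} (hi : i ≠ 0) (hχ : (χ : H → ℂ) (pw x i) ≠ 0) :
    (χ : H → ℂ) 1 = (p : ℂ) - 2 ∧
      ∀ g, Reg p x g → (χ : H → ℂ) g = (θ : H → ℂ) g - 1 := by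
  classical
  have hx := D.order
  have htθ : trivIrr H ≠ θ := by
    intro h
    have e := D.apply_pw hi
    rw [← h] at e
    change (1 : ℂ) = -1 at e
    norm_num at e
  set E : IrrCharacter H → ℤ := fun χ => (dm p x χ 1 : ℤ) - dm p x χ 0 with hE
  have hEt : E (trivIrr H) = -1 := by simp [hE, dm_triv' hx]
  have hEθ : E θ = 1 := by simp [hE, D.dm_zero, D.dm_ne_zero 1 one_ne_zero]
  have h11 := D.one_ne_neg_one
  have hE3 : ∑ χ, E χ ^ 2 = 3 := by
    simp only [sq, hE]
    rw [orth hx D.cent, D.mults_eq', Finset.sum_pair h11]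
    simp [h11.symm]
  have hpm : ∀ {v : ℤ}, v ^ 2 = 1 → v = 1 ∨ v = -1 := fun h => sq_eq_one_iff.1 h
  -- one further constituent
  have hrest : ∑ χ ∈ (Finset.univ.erase (trivIrr H)).erase θ, E χ ^ 2 = 1 := by
    have h1 := Finset.add_sum_erase Finset.univ (fun χ => E χ ^ 2) (Finset.mem_univ (trivIrr H))
    have h2 := Finset.add_sum_erase (Finset.univ.erase (trivIrr H)) (fun χ => E χ ^ 2)
      (show θ ∈ _ from Finset.mem_erase.2 ⟨htθ.symm, Finset.mem_univ _⟩)
    rw [hE3, hEt] at h1
    rw [hEθ] at h2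
    norm_num at h1 h2
    linarith
  obtain ⟨ψ, hψ, hψ0⟩ := Finset.exists_ne_zero_of_sum_ne_zero
    (show ∑ χ ∈ (Finset.univ.erase (trivIrr H)).erase θ, E χ ^ 2 ≠ 0 by rw [hrest]; norm_num)
  have hψθ : ψ ≠ θ := Finset.ne_of_mem_erase hψ
  have hψt : ψ ≠ trivIrr H := Finset.ne_of_mem_erase (Finset.mem_of_mem_erase hψ)
  have hψ1 : E ψ ^ 2 = 1 := by
    have h := Finset.single_le_sum (f := fun χ => E χ ^ 2) (fun i _ => sq_nonneg (E i)) hψ
    have h' : 0 < E ψ ^ 2 := lt_of_le_of_ne (sq_nonneg _) (Ne.symm hψ0)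
    rw [hrest] at h
    omega
  have hEother : ∀ η, η ≠ trivIrr H → η ≠ θ → η ≠ ψ → E η = 0 := by
    intro η h1 h2 h3
    have h := Finset.add_sum_erase _ (fun χ => E χ ^ 2) hψ
    rw [hrest, hψ1] at h
    have h' := Finset.single_le_sum (f := fun χ => E χ ^ 2) (fun i _ => sq_nonneg (E i))
      (show η ∈ ((Finset.univ.erase (trivIrr H)).erase θ).erase ψ from
        Finset.mem_erase.2 ⟨h3, Finset.mem_erase.2 ⟨h2, Finset.mem_erase.2 ⟨h1, Finset.mem_univ _⟩⟩⟩)
    have h'' : E η ^ 2 = 0 := le_antisymm (by linarith) (sq_nonneg _)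
    exact sq_eq_zero_iff.1 h''
  have hsumE : ∀ g, Reg p x g → -1 + conj ((θ : H → ℂ) g) + conj ((ψ : H → ℂ) g) * (E ψ : ℂ) = 0 := by
    intro g hg
    have h := sum_diff_reg hx hg 1 0
    rw [← Finset.sum_subset (Finset.subset_univ ({trivIrr H, θ, ψ} : Finset (IrrCharacter H)))
      (fun η _ hη => by
        simp only [Finset.mem_insert, Finset.mem_singleton, not_or] at hη
        have e := hEother η hη.1 hη.2.1 hη.2.2
        simp only [hE, sub_eq_zero, Nat.cast_inj] at e
        rw [e, sub_self, mul_zero]),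
      Finset.sum_insert (by simp [htθ, hψt.symm]), Finset.sum_pair hψθ.symm] at h
    have c : ∀ η : IrrCharacter H, (dm p x η 1 : ℂ) - dm p x η 0 = (E η : ℂ) := fun η => by simp [hE]
    rw [c, c, c, hEt, hEθ, show ((trivIrr H : IrrCharacter H) : H → ℂ) g = 1 from rfl] at h
    push_cast at h
    simp only [map_one] at h
    linear_combination h
  obtain ⟨dψ, hdψ0, hdψ⟩ := IsIrrCharacter.exists_apply_one ψ.2
  have hEψ : E ψ = -1 := by
    refine (hpm hψ1).resolve_left fun h => ?_
    have e := hsumE 1 (reg_one hx)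
    rw [h, D.degree, hdψ, map_sub, map_natCast, map_one, map_natCast] at e
    have e' : (((p + dψ : ℕ) : ℂ)) = ((2 : ℕ) : ℂ) := by push_cast at e ⊢; linear_combination e
    have := Nat.cast_injective e'
    have := D.three_le
    omega
  have hψg : ∀ g, Reg p x g → (ψ : H → ℂ) g = (θ : H → ℂ) g - 1 := by
    intro g hg
    have e := congrArg conj (hsumE g hg)
    rw [hEψ] at e
    simp at e
    linear_combination -e
  have hψdeg : (ψ : H → ℂ) 1 = (p : ℂ) - 2 := by
    rw [hψg 1 (reg_one hx), D.degree]; ring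
  by_cases hχψ : χ = ψ
  · subst hχψ; exact ⟨hψdeg, hψg⟩
  have hχE : E χ = 0 := hEother χ ht hθ hχψ
  obtain ⟨j, hj⟩ : ∃ j : ZMod p, dm p x χ j ≠ dm p x χ 1 := by
    by_contra h
    push Not at h
    refine hχ ?_
    rw [char_pw hx, Finset.sum_congr rfl fun j _ => by rw [h j, mul_comm i j],
      ← Finset.mul_sum, sum_std, if_neg hi, mul_zero]
  have hj0 : j ≠ 0 := by
    rintro rfl
    simp only [hE] at hχE
    omega
  have hjrel : ¬ Rel p x j 1 := fun h => hj (dm_rel hx χ h)
  set F : IrrCharacter H → ℤ := fun χ => (dm p x χ j : ℤ) - dm p x χ 1 with hF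
  have hF2 : ∑ η, F η ^ 2 = 2 := sq_diff hx D.cent hj0 one_ne_zero hjrel
  have hj1 : j ≠ 1 := fun h => hjrel ⟨1, one_mem_mults, by rw [h, one_mul]⟩
  have hjn : j ≠ -1 := fun h => hjrel ⟨-1, (D.mults_eq _).2 (Or.inr rfl), by rw [h]; ring⟩
  have hFt : F (trivIrr H) = 0 := by simp [hF, dm_triv' hx, hj0]
  have hFθ : F θ = 0 := by simp [hF, D.dm_ne_zero j hj0, D.dm_ne_zero 1 one_ne_zero]
  have hdot : ∑ η, F η * E η = -1 := by
    simp only [hF, hE]
    rw [orth hx D.cent, D.mults_eq', Finset.sum_pair h11]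
    simp [hj1.symm, hjn.symm, hj0.symm, h11.symm]
  have hFψ : F ψ = 1 := by
    rw [Fintype.sum_eq_single ψ fun η hη => ?_, hEψ] at hdot
    · linarith
    · by_cases h1 : η = trivIrr H
      · rw [h1, hFt, zero_mul]
      by_cases h2 : η = θ
      · rw [h2, hFθ, zero_mul]
      rw [hEother η h1 h2 hη, mul_zero]
  have hFχ : F χ ≠ 0 := by simp only [hF]; omega
  have hFother : ∀ η, η ≠ ψ → η ≠ χ → F η = 0 := by
    intro η h1 h2
    by_contra h
    have hsub := Finset.sum_le_sum_of_subset_of_nonneg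
      (Finset.subset_univ ({ψ, χ, η} : Finset (IrrCharacter H)))
      (fun i _ _ => sq_nonneg (F i))
    rw [hF2, Finset.sum_insert (by simp [Ne.symm hχψ, Ne.symm h1]), Finset.sum_pair (Ne.symm h2),
      hFψ] at hsub
    have a : 0 < F χ ^ 2 := by positivity
    have b : 0 < F η ^ 2 := by positivity
    omega
  have hsumF : ∀ g, Reg p x g → conj ((ψ : H → ℂ) g) + conj ((χ : H → ℂ) g) * (F χ : ℂ) = 0 := by
    intro g hg
    have h := sum_diff_reg hx hg j 1
    have c : ∀ η : IrrCharacter H, (dm p x η j : ℂ) - dm p x η 1 = (F η : ℂ) := fun η => by simp [hF]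
    simp only [c] at h
    rw [Fintype.sum_eq_add ψ χ (Ne.symm hχψ) fun η hη => by rw [hFother η hη.1 hη.2]; simp, hFψ] at h
    push_cast at h
    linear_combination h
  have hFval : F χ = -1 := by
    have hsq : F χ ^ 2 = 1 := by
      rw [Fintype.sum_eq_add ψ χ (Ne.symm hχψ) fun η hη => by rw [hFother η hη.1 hη.2]; rfl, hFψ] at hF2
      linarith
    refine (hpm hsq).resolve_left fun h => ?_
    obtain ⟨dχ, hdχ0, hdχ⟩ := IsIrrCharacter.exists_apply_one χ.2
    have e := hsumF 1 (reg_one hx)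
    rw [h, hdψ, hdχ, map_natCast, map_natCast] at e
    have e' : (((dψ + dχ : ℕ) : ℂ)) = ((0 : ℕ) : ℂ) := by push_cast at e ⊢; linear_combination e
    have := Nat.cast_injective e'
    omega
  have hχg : ∀ g, Reg p x g → (χ : H → ℂ) g = (ψ : H → ℂ) g := by
    intro g hg
    have e := congrArg conj (hsumF g hg)
    rw [hFval] at e
    simp at e
    linear_combination -e
  exact ⟨by rw [hχg 1 (reg_one hx), hψdeg], fun g hg => by rw [hχg g hg, hψg g hg]⟩

/-- `θ` has integer values. -/
theorem Datum.exists_int (D : Datum p x θ) (g : H) : ∃ z : ℤ, (θ : H → ℂ) g = z := by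
  classical
  haveI : NeZero (Nat.card H) := ⟨Nat.card_pos.ne'⟩
  have hv := irr_isCharacter θ
  have hfix : ∀ k : ℕ, Nat.Coprime k (Nat.card H) → (θ : H → ℂ) (g ^ k) = (θ : H → ℂ) g := by
    intro k hk
    let θ' : IrrCharacter H := ⟨_, InvChar.isIrr_comp_pow θ.2 hk⟩
    suffices h : θ' = θ from congrFun (congrArg Subtype.val h) g
    have hk0 : (k : ZMod p) ≠ 0 := by
      rw [Ne, ZMod.natCast_eq_zero_iff]
      intro h
      exact hp.out.one_lt.ne' (Nat.dvd_one.1 (hk ▸ Nat.dvd_gcd h (D.order ▸ orderOf_dvd_natCard x)))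
    have hval : (θ' : H → ℂ) (pw x (1 : ZMod p)) = -1 := by
      show (θ : H → ℂ) (pw x (1 : ZMod p) ^ k) = -1
      rw [pw_one, ← pw_natCast (p := p) D.order, D.apply_pw hk0]
    have hdeg : (θ' : H → ℂ) 1 = (p : ℂ) - 1 := by
      show (θ : H → ℂ) ((1 : H) ^ k) = _
      rw [one_pow, D.degree]
    by_contra hne
    by_cases ht : θ' = trivIrr H
    · rw [ht] at hval
      change (1 : ℂ) = -1 at hval
      norm_num at hval
    · have h := (D.exceptional ht hne one_ne_zero (by rw [hval]; norm_num)).1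
      rw [hdeg] at h
      have : (1 : ℂ) = 2 := by linear_combination -h
      norm_num at this
  obtain ⟨q, hq⟩ := exists_rat_of_fixed (n := Nat.card H)
    (x := ⟨(θ : H → ℂ) g, apply_mem_cycField hv g⟩) (fun σ => by
      obtain ⟨k, hk, hσ⟩ := exists_galPow (G := H) σ
      rw [hσ _ hv g]
      exact Subtype.ext (hfix k hk))
  have hq' : (θ : H → ℂ) g = (q : ℂ) := hq
  obtain ⟨z, hz⟩ := exists_int_of_isIntegral_rat (q := q) (hq' ▸ IsCharacter.isIntegral hv g)
  exact ⟨z, by rw [hq', hz]; simp⟩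

/-- `θ` is non-negative away from the non-trivial powers of `x`. -/
theorem Datum.re_nonneg (D : Datum p x θ) {g : H} (hg : Reg p x g) {z : ℤ}
    (hz : (θ : H → ℂ) g = z) : 0 ≤ z := by
  classical
  have hx := D.order
  have h11 := D.one_ne_neg_one
  have hreal : ∀ χ : IrrCharacter H, conj ((χ : H → ℂ) x) = (χ : H → ℂ) x := by
    intro χ
    rw [← IsCharacter.apply_inv (irr_isCharacter χ)]
    refine IsClassFunction.eq_of_isConj (irr_isClassFunction χ) ?_
    have h := ((isConj_pw hx (i := (-1 : ZMod p)) (l := (1 : ZMod p)) (neg_ne_zero.2 one_ne_zero))).2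
      ⟨-1, (D.mults_eq _).2 (Or.inr rfl), by ring⟩
    rwa [pw_neg hx, pw_one] at h
  have hsq : ∑ χ : IrrCharacter H, (χ : H → ℂ) x * (χ : H → ℂ) x = p := by
    have h := col_orth hx D.cent (i := (1 : ZMod p)) one_ne_zero 1
    simp only [pw_one, hreal, D.mults_eq', Finset.sum_pair h11] at h
    rw [h]
    simp [h11.symm]
  have htθ : trivIrr H ≠ θ := by
    intro h
    have e := D.apply_pw (i := 1) one_ne_zero
    rw [← h] at e
    change (1 : ℂ) = -1 at e
    norm_num at e
  have hp1 : (p : ℂ) - 1 ≠ 0 := by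
    rw [sub_ne_zero]
    exact_mod_cast hp.out.one_lt.ne'
  have hp2 : (p : ℂ) - 2 ≠ 0 := by
    rw [sub_ne_zero]
    exact_mod_cast (show p ≠ 2 by have := D.three_le; omega)
  have hx1 : (θ : H → ℂ) x = -1 := by rw [← pw_one (p := p) x, D.apply_pw one_ne_zero]
  have hterm : ∀ χ ∈ (Finset.univ.erase (trivIrr H)).erase θ,
      (χ : H → ℂ) x * (χ : H → ℂ) x * conj ((χ : H → ℂ) g) / (χ : H → ℂ) 1 =
        (χ : H → ℂ) x * (χ : H → ℂ) x * (((z : ℂ) - 1) / ((p : ℂ) - 2)) := by
    intro χ hχ
    by_cases h0 : (χ : H → ℂ) x = 0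
    · simp [h0]
    obtain ⟨h1, h2⟩ := D.exceptional (Finset.ne_of_mem_erase (Finset.mem_of_mem_erase hχ))
      (Finset.ne_of_mem_erase hχ) one_ne_zero (i := (1 : ZMod p)) (by rwa [pw_one])
    rw [h1, h2 g hg, hz]
    simp
    ring
  have hmem : θ ∈ Finset.univ.erase (trivIrr H) := Finset.mem_erase.2 ⟨htθ.symm, Finset.mem_univ _⟩
  have hrest : ∑ χ ∈ (Finset.univ.erase (trivIrr H)).erase θ, (χ : H → ℂ) x * (χ : H → ℂ) x =
      (p : ℂ) - 2 := by
    have e1 := Finset.add_sum_erase Finset.univ (fun χ : IrrCharacter H => (χ : H → ℂ) x * (χ : H → ℂ) x)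
      (Finset.mem_univ (trivIrr H))
    have e2 := Finset.add_sum_erase _ (fun χ : IrrCharacter H => (χ : H → ℂ) x * (χ : H → ℂ) x) hmem
    rw [hsq, show ((trivIrr H : IrrCharacter H) : H → ℂ) x = 1 from rfl] at e1
    rw [hx1] at e2
    linear_combination e1 + e2
  have hS : ∑ χ : IrrCharacter H, (χ : H → ℂ) x * (χ : H → ℂ) x * conj ((χ : H → ℂ) g) /
      (χ : H → ℂ) 1 = (z : ℂ) * p / ((p : ℂ) - 1) := by
    rw [← Finset.add_sum_erase _ _ (Finset.mem_univ (trivIrr H)),
      ← Finset.add_sum_erase _ _ hmem, Finset.sum_congr rfl hterm, ← Finset.sum_mul, hrest,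
      hx1, D.degree, hz, show ((trivIrr H : IrrCharacter H) : H → ℂ) x = 1 from rfl,
      show ((trivIrr H : IrrCharacter H) : H → ℂ) g = 1 from rfl,
      show ((trivIrr H : IrrCharacter H) : H → ℂ) 1 = 1 from rfl]
    rw [mul_div_cancel₀ _ hp2]
    simp
    field_simp
    ring
  have h := card_class_mul x x g
  rw [hS] at h
  set N := Nat.card {q : H × H // IsConj x q.1 ∧ IsConj x q.2 ∧ q.1 * q.2 = g}
  set C := Nat.card {y : H // IsConj x y}
  have hC : 0 < C := by
    haveI : Nonempty {y : H // IsConj x y} := ⟨⟨x, IsConj.refl x⟩⟩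
    exact Nat.card_pos
  have hG : (Nat.card H : ℂ) ≠ 0 := natCard_ne_zero_complex
  field_simp at h
  have h' : (N : ℤ) * Nat.card H * ((p : ℤ) - 1) = C * C * z * p := by
    apply Int.cast_injective (α := ℂ)
    push_cast
    linear_combination h
  by_contra hneg
  push Not at hneg
  have hl : 0 ≤ (N : ℤ) * Nat.card H * ((p : ℤ) - 1) :=
    mul_nonneg (by positivity) (by have := D.three_le; omega)
  have hr : (C : ℤ) * C * z * p < 0 :=
    mul_neg_of_neg_of_pos (mul_neg_of_pos_of_neg (by positivity) hneg) (by exact_mod_cast hp.out.pos)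
  omega

/-- The elements conjugate to non-trivial powers of `x`. -/
theorem Datum.card_not_reg (D : Datum p x θ) [DecidablePred (Reg p x)] :
    2 * p * (Finset.univ.filter fun g : H => ¬ Reg p x g).card = (p - 1) * Fintype.card H := by
  classical
  have hx := D.order
  set T := Finset.univ.filter fun g : H => ¬ Reg p x g with hT
  have h1 : ∀ i ∈ (Finset.univ : Finset (ZMod p)).erase 0,
      p * (T.filter fun g => IsConj (pw x i) g).card = Fintype.card H := by
    intro i hi
    have hi0 := Finset.ne_of_mem_erase hi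
    have e : (T.filter fun g => IsConj (pw x i) g) = Finset.univ.filter fun g => IsConj (pw x i) g := by
      ext g
      simp only [hT, Finset.mem_filter, Finset.mem_univ, true_and]
      exact ⟨fun h => h.2, fun h => ⟨fun hr => hr i hi0 h, h⟩⟩
    have hc := card_conj_mul_card_centralizer (pw x i)
    rw [card_centralizer hx D.cent hi0, Nat.card_eq_fintype_card (α := H)] at hc
    rw [e, ← Fintype.card_subtype, ← Nat.card_eq_fintype_card, mul_comm, hc]
  have h2 : ∀ g ∈ T,
      (((Finset.univ : Finset (ZMod p)).erase 0).filter fun i => IsConj (pw x i) g).card = 2 := by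
    intro g hg'
    have hg : ¬ Reg p x g := (Finset.mem_filter.1 hg').2
    simp only [Reg] at hg
    push Not at hg
    obtain ⟨i₀, hi₀, hc⟩ := hg
    have e : (((Finset.univ : Finset (ZMod p)).erase 0).filter fun i => IsConj (pw x i) g) =
        {i₀, -i₀} := by
      ext i
      simp only [Finset.mem_filter, Finset.mem_erase, Finset.mem_univ, and_true, Finset.mem_insert,
        Finset.mem_singleton]
      constructor
      · rintro ⟨-, h⟩
        obtain ⟨m, hm, rfl⟩ := (isConj_pw hx hi₀).1 (hc.trans h.symm)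
        rcases (D.mults_eq m).1 hm with rfl | rfl
        · exact Or.inl (one_mul _)
        · exact Or.inr (neg_one_mul _)
      · rintro (rfl | rfl)
        · exact ⟨hi₀, hc⟩
        · refine ⟨neg_ne_zero.2 hi₀, IsConj.trans (IsConj.symm ?_) hc⟩
          exact (isConj_pw hx hi₀).2 ⟨-1, (D.mults_eq _).2 (Or.inr rfl), neg_one_mul _⟩
    rw [e, Finset.card_pair]
    intro h
    have h' : ((2 : ℕ) : ZMod p) * i₀ = 0 := by push_cast; linear_combination h
    rcases mul_eq_zero.1 h' with h2 | h2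
    · rw [ZMod.natCast_eq_zero_iff] at h2
      have := Nat.le_of_dvd two_pos h2
      have := D.three_le
      omega
    · exact hi₀ h2
  have key := Finset.sum_card_bipartiteAbove_eq_sum_card_bipartiteBelow
    (s := (Finset.univ : Finset (ZMod p)).erase 0) (t := T) (fun i g => IsConj (pw x i) g)
  simp only [Finset.bipartiteAbove, Finset.bipartiteBelow] at key
  rw [Finset.sum_congr rfl h2, Finset.sum_const, smul_eq_mul] at key
  calc 2 * p * T.card = p * ∑ i ∈ (Finset.univ : Finset (ZMod p)).erase 0,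
        (T.filter fun g => IsConj (pw x i) g).card := by rw [key]; ring
    _ = (p - 1) * Fintype.card H := by
        rw [Finset.mul_sum, Finset.sum_congr rfl h1, Finset.sum_const,
          Finset.card_erase_of_mem (Finset.mem_univ _), Finset.card_univ, ZMod.card, smul_eq_mul]

/-- The order of the group. -/
theorem Datum.card_eq (D : Datum p x θ) :
    Fintype.card H = p * ((p - 1) * (p - 2)) *
      Nat.card {g : H // (θ : H → ℂ) g = (θ : H → ℂ) 1} := by
  classical
  have hx := D.order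
  choose t ht using D.exists_int
  set G : ℤ := (Fintype.card H : ℤ) with hG
  set T : Finset H := Finset.univ.filter fun g => ¬ Reg p x g with hTdef
  set R : Finset H := Finset.univ.filter fun g => Reg p x g with hRdef
  have hp3 := D.three_le
  have hsplit : ∀ f : H → ℤ, ∑ g ∈ R, f g + ∑ g ∈ T, f g = ∑ g, f g := fun f =>
    Finset.sum_filter_add_sum_filter_not Finset.univ _ f
  have htT : ∀ g ∈ T, t g = -1 := by
    intro g hg'
    have hg : ¬ Reg p x g := (Finset.mem_filter.1 hg').2
    simp only [Reg] at hg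
    push Not at hg
    obtain ⟨i, hi, hc⟩ := hg
    apply Int.cast_injective (α := ℂ)
    rw [← ht, ← IsClassFunction.eq_of_isConj (irr_isClassFunction θ) hc, D.apply_pw hi]
    simp
  have ht1 : t 1 = (p : ℤ) - 1 := by
    apply Int.cast_injective (α := ℂ)
    rw [← ht, D.degree]; simp
  have hle : ∀ g, t g ≤ (p : ℤ) - 1 := by
    intro g
    have h := IsCharacter.norm_le_re (irr_isCharacter θ) g
    rw [ht g, Complex.norm_intCast, D.degree] at h
    simp at h
    have h' : (t g : ℝ) ≤ (p : ℝ) - 1 := le_trans (le_abs_self _) h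
    exact_mod_cast h'
  have hnn : ∀ g ∈ R, 0 ≤ t g := fun g hg =>
    D.re_nonneg (by simpa [hRdef] using hg) (ht g)
  have hG0 : (Nat.card H : ℂ) ≠ 0 := natCard_ne_zero_complex
  have hs1 : ∑ g, t g = 0 := by
    apply Int.cast_injective (α := ℂ)
    push_cast
    simp only [← ht]
    have hne : (θ : H → ℂ) ≠ fun _ => 1 := fun h => by
      have e := D.apply_pw (i := 1) one_ne_zero
      rw [h] at e
      norm_num at e
    have h := IsIrrCharacter.classInner_ne θ.2 (trivIrr H).2 hne
    rw [classInner] at h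
    simp only [show ((trivIrr H : IrrCharacter H) : H → ℂ) = fun _ => 1 from rfl, map_one,
      mul_one, mul_eq_zero, inv_eq_zero, hG0, false_or] at h
    exact h
  have hs2 : ∑ g, t g ^ 2 = G := by
    apply Int.cast_injective (α := ℂ)
    push_cast
    have h := IsIrrCharacter.classInner_self θ.2
    rw [classInner, Finset.sum_congr rfl fun g _ => by rw [ht g, map_intCast, ← sq],
      inv_mul_eq_iff_eq_mul₀ hG0, mul_one] at h
    rw [h, hG, Nat.card_eq_fintype_card, Int.cast_natCast]
  obtain ⟨m, hm⟩ : ∃ m : ℕ, ∑ g, t g ^ 3 = G * m := by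
    obtain ⟨m, hm⟩ := IsCharacter.exists_classInner_nat
      (IsCharacter.mul (irr_isCharacter θ) (irr_isCharacter θ)) (irr_isCharacter θ)
    refine ⟨m, Int.cast_injective (α := ℂ) ?_⟩
    push_cast
    rw [classInner, Finset.sum_congr rfl fun g _ => by
      rw [Pi.mul_apply, ht g, map_intCast, ← sq, ← pow_succ],
      inv_mul_eq_iff_eq_mul₀ hG0] at hm
    rw [hm, hG, Nat.card_eq_fintype_card, Int.cast_natCast]
  have hT : (2 * p * T.card : ℤ) = ((p : ℤ) - 1) * G := by
    have h := D.card_not_reg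
    rw [← hTdef] at h
    have h' : ((2 * p * T.card : ℕ) : ℤ) = (((p - 1) * Fintype.card H : ℕ) : ℤ) := by rw [h]
    push_cast [Nat.cast_sub hp.out.one_le] at h'
    exact h'
  have hTsum : ∀ k : ℕ, ∑ g ∈ T, t g ^ k = (-1) ^ k * (T.card : ℤ) := by
    intro k
    rw [Finset.sum_congr rfl fun g hg => by rw [htT g hg], Finset.sum_const, nsmul_eq_mul, mul_comm]
  have r1 : ∑ g ∈ R, t g = T.card := by
    have h := hsplit t
    have e := hTsum 1
    simp only [pow_one] at e
    rw [hs1, e] at h; linarith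
  have r2 : ∑ g ∈ R, t g ^ 2 = G - T.card := by
    have h := hsplit (fun g => t g ^ 2)
    rw [hs2, hTsum] at h; linarith
  have r3 : ∑ g ∈ R, t g ^ 3 = G * m + T.card := by
    have h := hsplit (fun g => t g ^ 3)
    rw [hm, hTsum] at h; linarith
  have h1R : (1 : H) ∈ R := by simpa [hRdef] using reg_one hx
  have hm1 : 1 ≤ m := by
    by_contra hm0
    have hm0' : m = 0 := by omega
    rw [hm0', Nat.cast_zero, mul_zero, zero_add, ← r1] at r3
    have hlt : ∑ g ∈ R, t g < ∑ g ∈ R, t g ^ 3 := by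
      refine Finset.sum_lt_sum (fun g hg => ?_) ⟨1, h1R, ?_⟩
      · rcases (hnn g hg).eq_or_lt with h | h
        · rw [← h]; norm_num
        · exact le_self_pow₀ (by omega) (by norm_num)
      · rw [ht1]
        exact lt_self_pow₀ (by omega) (by norm_num)
    omega
  have hF : ∀ g ∈ R, 0 ≤ t g * (t g - 1) * ((p : ℤ) - 1 - t g) := by
    intro g hg
    refine mul_nonneg ?_ (by have := hle g; omega)
    rcases (hnn g hg).eq_or_lt with h | h
    · rw [← h]; norm_num
    · exact mul_nonneg (by omega) (by omega)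
  have hFsum : ∑ g ∈ R, t g * (t g - 1) * ((p : ℤ) - 1 - t g) = G * (1 - m) := by
    have e : ∀ g, t g * (t g - 1) * ((p : ℤ) - 1 - t g) =
        (p : ℤ) * t g ^ 2 - t g ^ 3 - ((p : ℤ) - 1) * t g := fun g => by ring
    simp only [e, Finset.sum_sub_distrib, ← Finset.mul_sum, r1, r2, r3]
    linear_combination -hT
  have hGpos : 0 < G := by rw [hG]; exact_mod_cast Fintype.card_pos
  have hzero : ∀ g ∈ R, t g * (t g - 1) * ((p : ℤ) - 1 - t g) = 0 := by
    refine (Finset.sum_eq_zero_iff_of_nonneg hF).1 (le_antisymm ?_ (Finset.sum_nonneg hF))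
    rw [hFsum]
    exact mul_nonpos_of_nonneg_of_nonpos hGpos.le (by omega)
  set K : Finset H := Finset.univ.filter fun g => t g = (p : ℤ) - 1 with hK
  have hKR : K ⊆ R := by
    intro g hg
    simp only [hK, Finset.mem_filter, Finset.mem_univ, true_and] at hg
    simp only [hRdef, Finset.mem_filter, Finset.mem_univ, true_and]
    by_contra hr
    have := htT g (by simp [hTdef, hr])
    omega
  have hsumq : ∑ g ∈ R, t g * (t g - 1) = (K.card : ℤ) * (((p : ℤ) - 1) * ((p : ℤ) - 2)) := by
    have h0 : ∀ g ∈ R, g ∉ K → t g * (t g - 1) = 0 := by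
      intro g hg hgK
      simp only [hK, Finset.mem_filter, Finset.mem_univ, true_and] at hgK
      exact (mul_eq_zero.1 (hzero g hg)).resolve_right (fun h => hgK (by omega))
    have h1 : ∀ g ∈ K, t g * (t g - 1) = ((p : ℤ) - 1) * ((p : ℤ) - 2) := by
      intro g hg
      simp only [hK, Finset.mem_filter, Finset.mem_univ, true_and] at hg
      rw [hg]; ring
    rw [← Finset.sum_subset hKR h0, Finset.sum_congr rfl h1, Finset.sum_const, nsmul_eq_mul]
  have hfin : G = (p : ℤ) * (((p : ℤ) - 1) * ((p : ℤ) - 2)) * K.card := by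
    have e : ∑ g ∈ R, t g * (t g - 1) = G - 2 * T.card := by
      simp only [mul_sub, mul_one, ← sq, Finset.sum_sub_distrib, r1, r2]; ring
    rw [hsumq] at e
    linear_combination (-(p : ℤ)) * e + hT
  have hKc : K.card = Nat.card {g : H // (θ : H → ℂ) g = (θ : H → ℂ) 1} := by
    rw [Nat.card_eq_fintype_card, Fintype.card_subtype]
    refine congrArg Finset.card (Finset.filter_congr fun g _ => ?_)
    rw [ht g, ht 1, ht1, Int.cast_inj]
  rw [← hKc]
  apply Int.natCast_inj.1
  push_cast [Nat.cast_sub hp.out.one_le, Nat.cast_sub hp.out.two_le]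
  rw [← hG]
  linear_combination hfin

end Cfsg.Agent.Lib.SelfCentralTwo
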